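import Mathlib

/-!
# Powers of simple groups

`mem_of_mulSingle`, `singleSub`: normal subgroups of powers of simple groups.
-/

set_option autoImplicit false

namespace Cfsg.Agent.H941.PiSimple

variable {S : Type*} [Group S] {n : ℕ}

/-- The elements `s` of `S` with `single i s ∈ N`. -/
def singleSub (N : Subgroup (Fin n → S)) (i : Fin n) : Subgroup S :=
  N.comap (MonoidHom.mulSingle (fun _ : Fin n => S) i)

theorem mem_singleSub {N : Subgroup (Fin n → S)} {i : Fin n} {s : S} :
    s ∈ singleSub N i ↔ Pi.mulSingle i s ∈ N := Iff.rfl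

instance singleSub_normal (N : Subgroup (Fin n → S)) [N.Normal] (i : Fin n) : (singleSub N i).Normal where
  conj_mem s hs g := by
    rw [mem_singleSub] at hs ⊢
    have h := Subgroup.Normal.conj_mem inferInstance _ hs (Pi.mulSingle i g : Fin n → S)
    rwa [← Pi.mulSingle_inv, ← Pi.mulSingle_mul, ← Pi.mulSingle_mul] at h

/-- If the singles of all coordinates of `x` are in `N`, so is `x`. -/
theorem mem_of_mulSingle {N : Subgroup (Fin n → S)} {x : Fin n → S}
    (h : ∀ i, Pi.mulSingle i (x i) ∈ N) : x ∈ N :=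
  Subgroup.pi_mem_of_mulSingle_mem x h

/-- In a normal subgroup, commutators of coordinates. -/
theorem single_commutator_mem {N : Subgroup (Fin n → S)} [N.Normal] {x : Fin n → S} (hx : x ∈ N)
    (i : Fin n) (t : S) : Pi.mulSingle i (x i * t * (x i)⁻¹ * t⁻¹) ∈ N := by
  have h1 : x * (Pi.mulSingle i t * x⁻¹ * (Pi.mulSingle i t)⁻¹) ∈ N :=
    N.mul_mem hx (Subgroup.Normal.conj_mem inferInstance _ (N.inv_mem hx) _)
  convert h1 using 1
  ext j
  by_cases hj : j = i
  · subst hj
    simp [mul_assoc]
  · simp [Pi.mulSingle_eq_of_ne hj]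

theorem singleSub_eq_top [IsSimpleGroup S] (hS : ¬ IsMulCommutative S) {N : Subgroup (Fin n → S)}
    [N.Normal] {x : Fin n → S} (hx : x ∈ N) {i : Fin n} (hi : x i ≠ 1) : singleSub N i = ⊤ := by
  have hc : Subgroup.center S = ⊥ := by
    rcases IsSimpleGroup.eq_bot_or_eq_top_of_normal (Subgroup.center S) inferInstance with h | h
    · exact h
    · exfalso
      apply hS
      exact ⟨⟨fun a b => (Subgroup.mem_center_iff.1 (h ▸ Subgroup.mem_top b : b ∈ Subgroup.center S) a)⟩⟩
  have hnc : ∃ t : S, x i * t * (x i)⁻¹ * t⁻¹ ≠ 1 := by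
    by_contra hcon
    push Not at hcon
    apply hi
    have : x i ∈ Subgroup.center S := by
      rw [Subgroup.mem_center_iff]
      intro g
      have := hcon g
      rw [mul_inv_eq_one, mul_inv_eq_iff_eq_mul] at this
      exact this.symm
    rw [hc] at this
    exact Subgroup.mem_bot.1 this
  obtain ⟨t, ht⟩ := hnc
  rcases IsSimpleGroup.eq_bot_or_eq_top_of_normal (singleSub N i) inferInstance with h | h
  · exfalso
    apply ht
    have : x i * t * (x i)⁻¹ * t⁻¹ ∈ singleSub N i := single_commutator_mem hx i t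
    rw [h] at this
    exact Subgroup.mem_bot.1 this
  · exact h

end Cfsg.Agent.H941.PiSimple
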