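import Mathlib
import Cfsg.Agent.H78.CodI

/-!
# S3538, the group `2⁵ . L₅(2)` (helper941)

`G / V ≅ L₅(2)` acts faithfully on the elementary abelian group `V`.  Then `|V| = 2⁵` and `G` induces the full
automorphism group `GL₅(2)` of `V`.  Let `U < V` be of order 8 and `K` the subgroup of the elements acting trivially on
`U` and on `V / U`; `K / V ≅ Hom(V / U, U)` is of order `2⁶`.  An element `x` of order 7 of `GL(U)` shows `[K, K] ≤ U`,
so `K` has a linear character not trivial on `V`, and `|G : K| = 2⁴ · odd`.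
-/

set_option autoImplicit false
set_option linter.unusedSectionVars false

namespace Cfsg.Agent.H941.Cod52

open Cfsg Matrix

/-! ### the commutator argument -/

section Comm

variable {G M : Type*} [Group G] [AddCommGroup M] {V K : Subgroup G}

theorem comm_eq_zero (hVn : ∀ v ∈ V, ∀ g : G, g * v * g⁻¹ ∈ V) {x : G} (hx : ∀ k ∈ K, x * k * x⁻¹ ∈ K)
    (L : G → M) (hL : ∀ v ∈ V, ∀ w ∈ V, L (v * w) = L v + L w) (h1 : ∀ k ∈ K, ∀ v ∈ V, L (k * v * k⁻¹) = L v)
    (hxL : ∀ v ∈ V, L (x * v * x⁻¹) = L v) (h2 : ∀ a ∈ K, ∀ b ∈ K, a * b * a⁻¹ * b⁻¹ ∈ V)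
    (hsq : ∀ k ∈ K, k * k ∈ V)
    (h4 : ∀ k ∈ K, k * (x * k * x⁻¹) * (x * (x * (x * k * x⁻¹) * x⁻¹) * x⁻¹) ∈ V) :
    ∀ a ∈ K, ∀ b ∈ K, L (a * b * a⁻¹ * b⁻¹) = 0 := by
  have hL1 : L 1 = 0 := by
    have := hL 1 (one_mem _) 1 (one_mem _)
    rw [mul_one] at this
    simpa using this
  have hLi : ∀ v ∈ V, L v + L v⁻¹ = 0 := fun v hv => by
    rw [← hL v hv v⁻¹ (inv_mem hv), mul_inv_cancel, hL1]
  let β : G → G → M := fun a b => L (a * b * a⁻¹ * b⁻¹)
  have bl : ∀ a ∈ K, ∀ b ∈ K, ∀ c ∈ K, β (a * b) c = β b c + β a c := by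
    intro a ha b hb c hc
    have e : a * b * c * (a * b)⁻¹ * c⁻¹ = (a * (b * c * b⁻¹ * c⁻¹) * a⁻¹) * (a * c * a⁻¹ * c⁻¹) := by group
    show L (a * b * c * (a * b)⁻¹ * c⁻¹) = _
    rw [e, hL _ (hVn _ (h2 b hb c hc) a) _ (h2 a ha c hc), h1 a ha _ (h2 b hb c hc)]
  have br : ∀ a ∈ K, ∀ b ∈ K, ∀ c ∈ K, β a (b * c) = β a b + β a c := by
    intro a ha b hb c hc
    have e : a * (b * c) * a⁻¹ * (b * c)⁻¹ = (a * b * a⁻¹ * b⁻¹) * (b * (a * c * a⁻¹ * c⁻¹) * b⁻¹) := by group
    show L (a * (b * c) * a⁻¹ * (b * c)⁻¹) = _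
    rw [e, hL _ (h2 a ha b hb) _ (hVn _ (h2 a ha c hc) b), h1 b hb _ (h2 a ha c hc)]
  have b0 : ∀ v ∈ V, ∀ c ∈ K, β v c = 0 := by
    intro v hv c hc
    have e : v * c * v⁻¹ * c⁻¹ = v * (c * v⁻¹ * c⁻¹) := by group
    show L (v * c * v⁻¹ * c⁻¹) = 0
    rw [e, hL _ hv _ (hVn _ (inv_mem hv) c), h1 c hc _ (inv_mem hv), hLi v hv]
  have b1 : ∀ a ∈ K, ∀ v ∈ V, β a v = 0 := by
    intro a ha v hv
    show L (a * v * a⁻¹ * v⁻¹) = 0
    rw [hL _ (hVn _ hv a) _ (inv_mem hv), h1 a ha _ hv, hLi v hv]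
  have bx : ∀ a ∈ K, ∀ b ∈ K, β (x * a * x⁻¹) (x * b * x⁻¹) = β a b := by
    intro a ha b hb
    have e : x * a * x⁻¹ * (x * b * x⁻¹) * (x * a * x⁻¹)⁻¹ * (x * b * x⁻¹)⁻¹ = x * (a * b * a⁻¹ * b⁻¹) * x⁻¹ := by
      group
    show L (x * a * x⁻¹ * (x * b * x⁻¹) * (x * a * x⁻¹)⁻¹ * (x * b * x⁻¹)⁻¹) = _
    rw [e, hxL _ (h2 a ha b hb)]
  intro a ha b hb
  -- the relation for the second argument
  have r2 : ∀ c ∈ K, β a c + β a (x * c * x⁻¹) + β a (x * (x * (x * c * x⁻¹) * x⁻¹) * x⁻¹) = 0 := by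
    intro c hc
    have hc1 := hx c hc
    have hc3 := hx _ (hx _ hc1)
    rw [← br a ha c hc _ hc1, ← br a ha _ (mul_mem hc hc1) _ hc3]
    exact b1 a ha _ (h4 c hc)
  have r1 : ∀ c ∈ K, β a (x * (x * (x * c * x⁻¹) * x⁻¹) * x⁻¹) + β a (x * (x * c * x⁻¹) * x⁻¹) + β a c = 0 := by
    intro c hc
    have hc1 := hx c hc
    have hc2 := hx _ hc1
    have hc3 := hx _ hc2
    have ha1 := hx a ha
    have ha2 := hx _ ha1
    have ha3 := hx _ ha2
    have h5 := b0 _ (h4 a ha) _ hc3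
    rw [bl _ (mul_mem ha ha1) _ ha3 _ hc3, bl _ ha _ ha1 _ hc3, bx _ ha2 _ hc2, bx _ ha1 _ hc1, bx _ ha _ hc,
      bx _ ha _ hc2] at h5
    rw [← h5]
    abel
  have hdouble : ∀ c ∈ K, β a c + β a c = 0 := by
    intro c hc
    rw [← br a ha c hc c hc]
    exact b1 a ha _ (hsq c hc)
  have hs : ∀ c ∈ K, β a (x * c * x⁻¹) = β a (x * (x * c * x⁻¹) * x⁻¹) := by
    intro c hc
    have h5 := r1 c hc
    rw [← r2 c hc] at h5
    have h6 : β a (x * (x * c * x⁻¹) * x⁻¹) = β a (x * c * x⁻¹) := by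
      have h7 : (β a (x * (x * (x * c * x⁻¹) * x⁻¹) * x⁻¹) + β a c) + β a (x * (x * c * x⁻¹) * x⁻¹) =
          (β a (x * (x * (x * c * x⁻¹) * x⁻¹) * x⁻¹) + β a c) + β a (x * c * x⁻¹) := by
        calc _ = β a (x * (x * (x * c * x⁻¹) * x⁻¹) * x⁻¹) + β a (x * (x * c * x⁻¹) * x⁻¹) + β a c := by abel
          _ = _ := by rw [h5]; abel
      exact add_left_cancel h7
    exact h6.symm
  have h5 := r2 b hb
  rw [← hs _ (hx b hb), ← hs b hb, add_assoc, hdouble _ (hx b hb), add_zero] at h5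
  exact h5

end Comm

/-! ### the coordinates -/

/-- coordinates: `U` and `V / U` -/
abbrev B : Type := (Fin 3 → ZMod 2) × (Fin 2 → ZMod 2)

/-- matrices of the homomorphisms `V / U → U` -/
abbrev MN : Type := Matrix (Fin 3) (Fin 2) (ZMod 2)

/-- an element of order 7 -/
def C : Matrix (Fin 3) (Fin 3) (ZMod 2) := !![0, 0, 1; 1, 0, 1; 0, 1, 0]

/-- its inverse -/
def C' : Matrix (Fin 3) (Fin 3) (ZMod 2) := C ^ 6

theorem C_mul : C * C' = 1 := by decide

theorem C_mul' : C' * C = 1 := by decide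

theorem C_rel : 1 + C + C * C * C = 0 := by decide

/-- the unipotent automorphisms -/
def al (N : MN) : B ≃+ B where
  toFun p := (p.1 + N *ᵥ p.2, p.2)
  invFun p := (p.1 - N *ᵥ p.2, p.2)
  left_inv p := by simp
  right_inv p := by simp
  map_add' p p' := by
    ext i
    · simp [Matrix.mulVec_add]; ring
    · simp

theorem al_apply (N : MN) (p : B) : al N p = (p.1 + N *ᵥ p.2, p.2) := rfl

theorem al_add (N N' : MN) (p : B) : al (N + N') p = al N (al N' p) := by
  rw [al_apply, al_apply, al_apply]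
  simp only [Matrix.add_mulVec]
  ext i
  · simp; ring
  · rfl

theorem al_zero (p : B) : al 0 p = p := by
  rw [al_apply, Matrix.zero_mulVec, add_zero]

/-- the element of order 7 -/
def ga : B ≃+ B where
  toFun p := (C *ᵥ p.1, p.2)
  invFun p := (C' *ᵥ p.1, p.2)
  left_inv p := by simp [Matrix.mulVec_mulVec, C_mul']
  right_inv p := by simp [Matrix.mulVec_mulVec, C_mul]
  map_add' p p' := by
    ext i
    · simp [Matrix.mulVec_add]
    · simp

theorem ga_apply (p : B) : ga p = (C *ᵥ p.1, p.2) := rfl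

theorem ga_al (N : MN) (p : B) : ga (al N p) = al (C * N) (ga p) := by
  rw [al_apply, ga_apply, ga_apply, al_apply]
  simp only [Matrix.mulVec_add, Matrix.mulVec_mulVec]

theorem al_injective : Function.Injective al := by
  intro N N' h
  ext i j
  have h1 := congrArg (fun a : B ≃+ B => (a (0, Pi.single j 1)).1 i) h
  simp only [al_apply] at h1
  simpa using h1

section Main

variable {V : Type*} [Group V] (ε : Additive V ≃+ B)

/-- the automorphisms of `V` from those of `B` -/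
def T (α : B ≃+ B) : MulAut V where
  toFun := fun v => (ε.symm (α (ε (Additive.ofMul v)))).toMul
  invFun := fun v => (ε.symm (α.symm (ε (Additive.ofMul v)))).toMul
  left_inv := fun v => by simp
  right_inv := fun v => by simp
  map_mul' := fun v w => by simp

theorem T_apply (α : B ≃+ B) (v : V) : ε (Additive.ofMul (T ε α v)) = α (ε (Additive.ofMul v)) := by
  show ε (Additive.ofMul (ε.symm (α (ε (Additive.ofMul v)))).toMul) = _
  simp

/-- automorphisms are determined by their effect on the coordinates -/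
theorem ext_aut {f g : MulAut V} (h : ∀ v, ε (Additive.ofMul (f v)) = ε (Additive.ofMul (g v))) : f = g := by
  ext v
  exact Additive.ofMul.injective (ε.injective (h v))

theorem T_injective : Function.Injective (T ε) := by
  intro α β h
  refine AddEquiv.ext fun p => ?_
  have h1 := congrArg (fun a : MulAut V => ε (Additive.ofMul (a (ε.symm p).toMul))) h
  simp only [T_apply] at h1
  simpa using h1

theorem T_al_add (N N' : MN) : T ε (al (N + N')) = T ε (al N) * T ε (al N') :=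
  ext_aut ε fun v => by rw [MulAut.mul_apply, T_apply, T_apply, T_apply, al_add]

theorem T_al_zero : T ε (al 0) = 1 :=
  ext_aut ε fun v => by rw [MulAut.one_apply, T_apply, al_zero]

theorem T_ga_al (N : MN) : T ε ga * T ε (al N) * (T ε ga)⁻¹ = T ε (al (C * N)) := by
  rw [mul_inv_eq_iff_eq_mul]
  exact ext_aut ε fun v => by
    rw [MulAut.mul_apply, MulAut.mul_apply, T_apply, T_apply, T_apply, T_apply, ga_al]

/-- the unipotent automorphisms of `V` -/
def io : Multiplicative MN →* MulAut V where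
  toFun N := T ε (al N.toAdd)
  map_one' := by rw [toAdd_one, T_al_zero]
  map_mul' _ _ := by rw [toAdd_mul, T_al_add]

theorem io_injective : Function.Injective (io ε) := fun N N' h =>
  Multiplicative.toAdd.injective (al_injective (T_injective ε h))

theorem card_range : Nat.card (io ε).range = 64 := by
  rw [Nat.card_congr (MonoidHom.ofInjective (io_injective ε)).symm.toEquiv]
  show Nat.card (Fin 3 → Fin 2 → ZMod 2) = 64
  rw [Nat.card_eq_fintype_card]
  simp

end Main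

theorem rel (N : MN) : N + C * N + C * (C * (C * N)) = 0 := by
  have e1 : N + C * N + C * (C * (C * N)) = (1 + C + C * C * C) * N := by
    rw [Matrix.add_mul, Matrix.add_mul, Matrix.one_mul, Matrix.mul_assoc, Matrix.mul_assoc]
  rw [e1, C_rel, Matrix.zero_mul]

/-- `β : K × K → V / U` vanishes. -/
theorem comm_mem {G : Type*} [Group G] {V : Subgroup G} [hVn : V.Normal] (ε : Additive V ≃+ B)
    (hker : ∀ g : G, (MulAut.conjNormal g : MulAut V) = 1 → g ∈ V)
    (hsurj : Function.Surjective (MulAut.conjNormal : G →* MulAut V)) :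
    ∀ a ∈ (io ε).range.comap (MulAut.conjNormal : G →* MulAut V),
    ∀ b ∈ (io ε).range.comap (MulAut.conjNormal : G →* MulAut V),
      ∀ h : a * b * a⁻¹ * b⁻¹ ∈ V, (ε (Additive.ofMul ⟨a * b * a⁻¹ * b⁻¹, h⟩)).2 = 0 := by
  classical
  set φ : G →* MulAut V := MulAut.conjNormal with hφ
  obtain ⟨x, hx⟩ := hsurj (T ε ga)
  have hconj : ∀ {g : G} {α : B ≃+ B}, φ g = T ε α → ∀ v : V, ∀ h : g * v * g⁻¹ ∈ V,
      ε (Additive.ofMul ⟨g * v * g⁻¹, h⟩) = α (ε (Additive.ofMul v)) := by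
    intro g α hg v h
    rw [← T_apply, ← hg]
    rfl
  let L : G → (Fin 2 → ZMod 2) := fun g => if h : g ∈ V then (ε (Additive.ofMul ⟨g, h⟩)).2 else 0
  have hLV : ∀ {g : G} (h : g ∈ V), L g = (ε (Additive.ofMul ⟨g, h⟩)).2 := fun h => dif_pos h
  have hX : ∀ {k : G} {N : MN}, φ k = T ε (al N) → φ (x * k * x⁻¹) = T ε (al (C * N)) := by
    intro k N hk
    rw [map_mul, map_mul, map_inv, hx, hk, T_ga_al]
  have key := comm_eq_zero (V := V) (K := (io ε).range.comap φ) (x := x) (fun v hv g => hVn.conj_mem v hv g) ?_ L ?_ ?_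
    ?_ ?_ ?_ ?_
  · intro a ha b hb h
    have h5 := key a ha b hb
    rwa [hLV h] at h5
  · rintro k ⟨N, hN⟩
    exact ⟨Multiplicative.ofAdd (C * N.toAdd), (hX hN.symm).symm⟩
  · intro v hv w hw
    rw [hLV (mul_mem hv hw), hLV hv, hLV hw]
    have e : (⟨v * w, mul_mem hv hw⟩ : V) = ⟨v, hv⟩ * ⟨w, hw⟩ := rfl
    rw [e, ofMul_mul, map_add]
    rfl
  · rintro k ⟨N, hN⟩ v hv
    rw [hLV (hVn.conj_mem v hv k), hLV hv, hconj hN.symm ⟨v, hv⟩]
    rfl
  · intro v hv
    rw [hLV (hVn.conj_mem v hv x), hLV hv, hconj hx ⟨v, hv⟩]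
    rfl
  · rintro a ⟨N, hN⟩ b ⟨N', hN'⟩
    apply hker
    rw [map_mul, map_mul, map_mul, map_inv, map_inv, ← hN, ← hN']
    have e : io ε N * io ε N' = io ε N' * io ε N := by rw [← map_mul, mul_comm, map_mul]
    rw [e]
    group
  · rintro k ⟨N, hN⟩
    apply hker
    rw [map_mul, ← hN]
    show T ε (al N.toAdd) * T ε (al N.toAdd) = 1
    rw [← T_al_add]
    have e : N.toAdd + N.toAdd = 0 := by
      ext i j
      exact CharTwo.add_self_eq_zero _
    rw [e, T_al_zero]
  · rintro k ⟨N, hN⟩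
    apply hker
    have h1 := hX hN.symm
    have h3 := hX (hX h1)
    rw [map_mul, map_mul, ← hN, h1, h3]
    show T ε (al N.toAdd) * _ * _ = 1
    rw [← T_al_add, ← T_al_add]
    have e : N.toAdd + C * N.toAdd + C * (C * (C * N.toAdd)) = 0 := rel N.toAdd
    rw [e, T_al_zero]

theorem index_comap {G H : Type*} [Group G] [Group H] (f : G →* H) (hf : Function.Surjective f) (A : Subgroup H) :
    (A.comap f).index = A.index := Subgroup.index_comap_of_surjective A hf

theorem prod_five : ∏ i : Fin 5, (2 ^ 5 - 2 ^ (i : ℕ)) = 9999360 := by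
  rw [Fin.prod_univ_five]; norm_num

/-- The group `2⁵ . L₅(2)` -/
theorem exc52 {G : Type*} [Group G] [Finite G] {V : Subgroup G} [V.Normal] {F : Type*} [Field F] [Fintype F]
    (hF : Fintype.card F = 2) (hB : H78.CodA.Big V) (hab : ∀ x ∈ V, ∀ y ∈ V, x * y = y * x)
    (hexp : ∀ x ∈ V, x ^ 2 = 1) (hV1 : V ≠ ⊥) (hmin : ∀ J : Subgroup G, J.Normal → J ≤ V → J = ⊥ ∨ J = V)
    (hC : Subgroup.centralizer (V : Set G) ≤ V) (e : G ⧸ V ≃* ProjectiveSpecialLinearGroup (Fin 5) F) : False := by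
  classical
  have hp : Fact (Nat.Prime 2) := ⟨Nat.prime_two⟩
  obtain ⟨c, hcinj, hcφ⟩ := Lib.ElemAbGL.exists_injective_hom_mulAut V hab hC
  obtain ⟨s, hs, hker⟩ := GpLn.Elem.exists_proj (α := Fin 5) e (by simp)
  have hVp : IsPGroup 2 V := fun v => ⟨1, by rw [pow_one]; exact Subtype.ext (hexp _ v.2)⟩
  obtain ⟨k, hk⟩ := IsPGroup.iff_card.1 hVp
  have hF' : Fintype.card F = 2 ^ 1 := by rw [hF, pow_one]
  have hN : Nontrivial (Fin 5) := Fin.nontrivial_iff_two_le.2 (by omega)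
  have hVc : ∀ a b : V, a * b = b * a := fun a b => Subtype.ext (hab _ a.2 _ b.2)
  have hVe : ∀ a : V, a ^ 2 = 1 := fun a => Subtype.ext (hexp _ a.2)
  -- `|V| ≥ 2 ^ 5`
  have h1 : (2 ^ 1) ^ 5 ≤ Nat.card V := by
    refine H78.CodD.le_card hF' (by norm_num) (W := V) hVc hVe (c.comp s) ?_
    intro h
    have h2 : s.ker = ⊤ := by
      rw [eq_top_iff, ← h]
      intro x hx
      rw [MonoidHom.mem_ker] at hx ⊢
      apply hcinj
      rw [map_one]
      exact hx
    rw [hker] at h2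
    exact (H78.CodG.SLQuasisimple_ne (n := 5) (F := F) (by omega)) h2
  have h1' := h1
  rw [hk, pow_one] at h1'
  have h3 := (Nat.pow_le_pow_iff_right (by norm_num)).1 h1'
  -- `|V|² ∣ |L|`
  have h4 := (H78.CodH.sq_dvd hB).trans (Subgroup.card_dvd_of_surjective s hs)
  rw [hk] at h4
  have h5 := (Nat.factorization_le_iff_dvd (pow_ne_zero _ (pow_ne_zero _ two_ne_zero)) Nat.card_pos.ne').2 h4 2
  rw [← pow_mul, Nat.prime_two.factorization_pow, Finsupp.single_eq_same,
    H78.CodF.fact_SL Nat.prime_two hF' (by omega)] at h5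
  have hk5 : k = 5 := by omega
  subst hk5
  have hA : Nat.card (MulAut V) = 9999360 := by rw [H78.CodD.card_mulAut hVc hVe hk, prod_five]
  have hSL : Nat.card (SpecialLinearGroup (Fin 5) F) = 9999360 := by
    have h := S0242.result (F := F) hF 5 (by norm_num)
    rw [Fin.prod_univ_five] at h
    norm_num at h
    rw [Nat.card_eq_fintype_card, h]
  -- the centre is trivial
  have hsinj : Function.Injective s := by
    rw [← MonoidHom.ker_eq_bot_iff, eq_bot_iff, hker]
    intro y hy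
    obtain ⟨c, hc1, hc2⟩ := Matrix.SpecialLinearGroup.mem_center_iff.1 hy
    have hc0 : c ≠ 0 := by
      rintro rfl
      rw [Fintype.card_fin, zero_pow (by norm_num)] at hc1
      exact zero_ne_one hc1
    have h2 : c ^ (Fintype.card F - 1) = 1 := FiniteField.pow_card_sub_one_eq_one c hc0
    rw [hF, pow_one] at h2
    rw [Subgroup.mem_bot]
    apply Subtype.ext
    rw [← hc2, h2, map_one]
    rfl
  have hbij : Function.Bijective (c.comp s) := by
    rw [Nat.bijective_iff_injective_and_card]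
    exact ⟨hcinj.comp hsinj, by rw [hA, hSL]⟩
  have hsurj : Function.Surjective (MulAut.conjNormal : G →* MulAut V) := by
    intro α
    obtain ⟨y, hy⟩ := hbij.2 α
    obtain ⟨g, hg⟩ := QuotientGroup.mk_surjective (s y)
    refine ⟨g, ?_⟩
    rw [← hcφ g, hg]
    exact hy
  have hkerφ : ∀ g : G, (MulAut.conjNormal g : MulAut V) = 1 → g ∈ V := by
    intro g hg
    rw [← hcφ g] at hg
    have h6 := hcinj (hg.trans (map_one c).symm)
    exact (QuotientGroup.eq_one_iff g).1 h6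
  -- coordinates
  obtain ⟨ε⟩ : Nonempty (Additive V ≃+ B) := by
    let _ : CommGroup V := { (inferInstance : Group V) with mul_comm := hVc }
    let _ : Module (ZMod 2) (Additive V) := AddCommGroup.zmodModule (n := 2) fun x => congrArg Additive.ofMul (hVe x.toMul)
    obtain ⟨b1⟩ := Lib.ElemAbGL.exists_basis (W := Additive V) 2 5 hk
    obtain ⟨b2⟩ := Lib.ElemAbGL.exists_basis (W := B) 2 5 (by
      rw [Nat.card_eq_fintype_card]; simp)
    exact ⟨(b1.equiv b2 (Equiv.refl _)).toAddEquiv⟩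
  set K : Subgroup G := (io ε).range.comap (MulAut.conjNormal : G →* MulAut V) with hK
  have hidx : K.index * 64 = 9999360 := by
    rw [hK, index_comap _ hsurj, ← hA, ← card_range ε, mul_comm]
    exact Subgroup.card_mul_index _
  have hVK : V ≤ K := by
    intro v hv
    refine ⟨1, ?_⟩
    rw [map_one, ← hcφ v, (QuotientGroup.eq_one_iff v).2 hv, map_one]
  -- an element of `V` outside `[K, K]`
  set v : V := (ε.symm (0, Pi.single 0 1)).toMul with hv
  have hvK : (v : G) ∈ K := hVK v.2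
  have hne : (Abelianization.of (⟨v, hvK⟩ : K)) ≠ 1 := by
    intro h
    have h6 : (⟨v, hvK⟩ : K) ∈ commutator K := by
      rwa [← Abelianization.ker_of, MonoidHom.mem_ker]
    -- the elements with second coordinate zero
    let U : Subgroup K :=
      { carrier := {k | ∃ h : (k : G) ∈ V, (ε (Additive.ofMul ⟨k, h⟩)).2 = 0}
        one_mem' := ⟨one_mem V, by
          have : ε (Additive.ofMul (⟨((1 : K) : G), one_mem V⟩ : V)) = 0 := map_zero ε
          rw [this]; rfl⟩
        mul_mem' := by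
          rintro a b ⟨ha, ha'⟩ ⟨hb, hb'⟩
          refine ⟨mul_mem ha hb, ?_⟩
          have : ε (Additive.ofMul (⟨((a * b : K) : G), mul_mem ha hb⟩ : V)) =
            ε (Additive.ofMul ⟨a, ha⟩) + ε (Additive.ofMul ⟨b, hb⟩) :=
            map_add ε (Additive.ofMul ⟨a, ha⟩) (Additive.ofMul ⟨b, hb⟩)
          rw [this, Prod.snd_add, ha', hb', add_zero]
        inv_mem' := by
          rintro a ⟨ha, ha'⟩
          refine ⟨inv_mem ha, ?_⟩
          have : ε (Additive.ofMul (⟨((a⁻¹ : K) : G), inv_mem ha⟩ : V)) = - ε (Additive.ofMul ⟨a, ha⟩) :=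
            map_neg ε (Additive.ofMul ⟨a, ha⟩)
          rw [this, Prod.snd_neg, ha', neg_zero] }
    have h7 : commutator K ≤ U := by
      rw [commutator_def, Subgroup.commutator_le]
      rintro a - b -
      have h8 : (a : G) * b * (a : G)⁻¹ * (b : G)⁻¹ ∈ V := by
        apply hkerφ
        obtain ⟨N, hN⟩ := a.2
        obtain ⟨N', hN'⟩ := b.2
        rw [map_mul, map_mul, map_mul, map_inv, map_inv, ← hN, ← hN']
        have e : io ε N * io ε N' = io ε N' * io ε N := by rw [← map_mul, mul_comm, map_mul]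
        rw [e]
        group
      exact ⟨h8, comm_mem ε hkerφ hsurj a a.2 b b.2 h8⟩
    obtain ⟨h8, h9⟩ := h7 h6
    have h10 : ε (Additive.ofMul (⟨((⟨v, hvK⟩ : K) : G), h8⟩ : V)) = (0, Pi.single 0 1) := by
      have : (⟨((⟨v, hvK⟩ : K) : G), h8⟩ : V) = v := rfl
      rw [this, hv]
      simp
    rw [h10] at h9
    have h11 := congrFun h9 0
    simp at h11
  obtain ⟨μ, hμ⟩ := CommGroup.exists_apply_ne_one_of_hasEnoughRootsOfUnity (Abelianization K) ℂ hne
  have h12 := H78.CodA.dvd_of_lin hB (K := K) (μ.comp Abelianization.of) ⟨⟨v, hvK⟩, v.2, hμ⟩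
  rw [hk] at h12
  omega

end Cfsg.Agent.H941.Cod52
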